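import Cfsg.Agent.H886.IF.Eight
import Cfsg.Agent.H989.Fx.Hc
import Cfsg.Agent.H893.IF.EightP

/-!
# S5719, `POmega_8^+(q)`, `q` odd: the model for helper893's cell (helper886)

`exists_model8` : the four long `SL₂` of a fundamental involution, in any quotient of `E Q` by `±1`.
-/

set_option autoImplicit false
set_option linter.unusedSectionVars false

namespace Cfsg.Agent.H886.IF8

open QuadraticMap Module Cfsg.Agent.LieClassical Cfsg.Agent.LieClassical.OrthCore Cfsg.Agent.LieClassical.OrthTrans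
open Cfsg.Agent.H989.Gs.Gen Cfsg.Agent.H989.Fx Cfsg.Agent.H325.IF
open Cfsg.Agent.H893.IFE (Model8)

universe u v w

variable {F : Type u} {V : Type v} [Field F] [AddCommGroup V] [Module F V] {Q : QuadraticForm F V}

theorem exists_model8 [Finite F] [FiniteDimensional F V] {T : Type w} [Group T] (π : ↥(E Q) →* T)
    (h2 : (2 : F) ≠ 0) (hG : Good Q) (hT : Ty Q 8 1)
    (hker : ∀ g, π g = 1 ↔ g = 1 ∨ ∀ v, ap g v = -v) (z : ↥(E Q)) (hz : Fund Q z) : ∃ f, Model8 π z f := by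
  obtain ⟨e₁, f₁, e₂, f₂, e₃, f₃, e₄, f₄, H, rfl⟩ := exists_eight h2 hG hT hz
  refine ⟨fs π H, fs_comm π H, fs_neg π H hker, fun i j hij s t hs ht => ?_, fun i g hg hc => ?_⟩
  · exact fs_sup π H h2 hG (p := fun t => ∃ g : ↥(E Q), π g = t ∧
      ((g * g = 1 ∧ finrank F (Vm g) = 2) ∨ ∀ v, ap g (ap g v) = -v))
      (fun g h1 h3 => ⟨g, rfl, Or.inl ⟨h1, h3⟩⟩) (fun g h1 => ⟨g, rfl, Or.inr h1⟩) i j hij s t hs ht
  · obtain ⟨a, b, c, d, h, hf⟩ := fs_four π H i
    rw [← fs_neg π H hker i, hf]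
    exact hc_eight h2 hG π hker hT h hg fun M => by rw [← hf M, hc M]

end Cfsg.Agent.H886.IF8
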